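import Groth.Agent.Lib.EtSite.Basic
import Groth.Agent.Lib.NAH1.CechIso
import Mathlib.Algebra.Category.Grp.FilteredColimits
import Mathlib.Algebra.Category.Grp.Limits
import Mathlib.CategoryTheory.Sites.Over
import Mathlib.CategoryTheory.Sites.Whiskering

/-!
# Embedding a sheaf of groups on the small étale site in a sheaf all of whose torsors are trivial
-/

universe u

open CategoryTheory CategoryTheory.Limits AlgebraicGeometry Opposite
open Groth.Agent.Lib.NAH1.Basic

namespace Groth.Agent.H76.GodementGrp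

variable {X : Scheme.{u}}

/-- The chosen geometric point over `x`. -/
noncomputable abbrev pt (x : X) : GrothendieckTopology.Point.{u} X.smallEtaleTopology :=
  Scheme.pointSmallEtale (Groth.Agent.Lib.EtSite.Basic.geomPoint X x)

theorem fmap (x : X) {U V W : X.Etale} (a : U ⟶ V) (b : V ⟶ W) (s : (pt x).fiber.obj U) :
    (pt x).fiber.map (a ≫ b) s = (pt x).fiber.map b ((pt x).fiber.map a s) := by
  rw [Functor.map_comp]; rfl

section stalk

variable (F : Sheaf X.smallEtaleTopology GrpCat.{u + 1}) (x : X)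

/-- The diagram of neighbourhoods. -/
noncomputable abbrev diagram : (pt x).fiber.Elementsᵒᵖ ⥤ GrpCat.{u + 1} :=
  (CategoryOfElements.π (pt x).fiber).op ⋙ F.obj

instance isFiltered_elements : IsFiltered (pt x).fiber.Elementsᵒᵖ := inferInstance

/-- A colimit cocone on the neighbourhoods. -/
noncomputable def cocone : Cocone (diagram F x) :=
  (Functor.Final.extendCocone (F := FinallySmall.fromFilteredFinalModel.{u} (pt x).fiber.Elementsᵒᵖ)).obj
    (GrpCat.FilteredColimits.colimitCocone.{u, u + 1}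
      (FinallySmall.fromFilteredFinalModel.{u} (pt x).fiber.Elementsᵒᵖ ⋙ diagram F x))

/-- It is a colimit. -/
noncomputable def isColimitCocone : IsColimit (cocone F x) :=
  (Functor.Final.isColimitExtendCoconeEquiv _ _).symm
    (GrpCat.FilteredColimits.colimitCoconeIsColimit _)

/-- The stalk. -/
noncomputable abbrev M : GrpCat.{u + 1} := (cocone F x).pt

/-- The germ. -/
noncomputable abbrev germ (U : X.Etale) (t : (pt x).fiber.obj U) : F.obj.obj (op U) ⟶ M F x :=
  (cocone F x).ι.app (op ⟨U, t⟩)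

theorem germ_res {U V : X.Etale} (a : V ⟶ U) (t : (pt x).fiber.obj V) (f : F.obj.obj (op U)) :
    germ F x V t (F.obj.map a.op f) = germ F x U ((pt x).fiber.map a t) f :=
  ConcreteCategory.congr_hom ((cocone F x).w
    (CategoryOfElements.homMk ⟨V, t⟩ ⟨U, (pt x).fiber.map a t⟩ a rfl).op) f

theorem exists_res_eq {U : X.Etale} (t : (pt x).fiber.obj U) {f g : F.obj.obj (op U)}
    (h : germ F x U t f = germ F x U t g) :
    ∃ (V : X.Etale) (a : V ⟶ U) (s : (pt x).fiber.obj V),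
      (pt x).fiber.map a s = t ∧ F.obj.map a.op f = F.obj.map a.op g := by
  have : PreservesFilteredColimitsOfSize.{u, u} (forget GrpCat.{u + 1}) :=
    ⟨fun J _ _ => by
      have := (GrpCat.FilteredColimits.forget_preservesFilteredColimits.{u + 1})
      exact preservesFilteredColimitsOfSize_shrink.{u, u + 1, u, u + 1} (forget GrpCat.{u + 1}) |>.preserves_filtered_colimits J⟩
  have hpres : PreservesColimitsOfShape (pt x).fiber.Elementsᵒᵖ (forget GrpCat.{u + 1}) :=
    Functor.Final.preservesColimitsOfShape_of_final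
      (FinallySmall.fromFilteredFinalModel.{u} _) _
  obtain ⟨⟨⟨V, s⟩⟩, a, ha⟩ := ((isColimitCocone F x).eq_iff' (i := op ⟨U, t⟩) f g).mp h
  exact ⟨V, a.unop.val, s, a.unop.property, ha⟩

end stalk

variable (F : Sheaf X.smallEtaleTopology GrpCat.{u + 1})

/-- The presheaf of families of stalk elements at all lifts of the chosen geometric points. -/
noncomputable def presheaf : X.Etaleᵒᵖ ⥤ GrpCat.{u + 1} where
  obj U := GrpCat.of (∀ x : X, (pt x).fiber.obj U.unop → M F x)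
  map {U V} a := GrpCat.ofHom
    { toFun := fun s x t => s x ((pt x).fiber.map a.unop t)
      map_one' := rfl
      map_mul' := fun _ _ => rfl }
  map_id U := by
    ext s x t
    simp
  map_comp a b := by
    ext s x t
    simp

theorem isSheaf_presheaf : Presheaf.IsSheaf X.smallEtaleTopology (presheaf F) := by
  apply Presheaf.isSheaf_of_isSheaf_comp _ _ (forget GrpCat.{u + 1})
  rw [isSheaf_iff_isSheaf_of_type]
  intro U R hR y hy
  have hy' := (Presieve.compatible_iff_sieveCompatible _).mp hy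
  -- independence of the lift
  have indep : ∀ (x : X) (V₁ V₂ : X.Etale) (a₁ : V₁ ⟶ U) (a₂ : V₂ ⟶ U) (h₁ : R a₁) (h₂ : R a₂)
      (t₁ : (pt x).fiber.obj V₁) (t₂ : (pt x).fiber.obj V₂),
      (pt x).fiber.map a₁ t₁ = (pt x).fiber.map a₂ t₂ →
        (y a₁ h₁ : ∀ x : X, (pt x).fiber.obj V₁ → M F x) x t₁ =
          (y a₂ h₂ : ∀ x : X, (pt x).fiber.obj V₂ → M F x) x t₂ := by
    intro x V₁ V₂ a₁ a₂ h₁ h₂ t₁ t₂ ht
    obtain ⟨⟨W, s⟩, ⟨c₁, hc₁⟩, ⟨c₂, hc₂⟩, -⟩ := IsCofilteredOrEmpty.cone_objs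
      (C := (pt x).fiber.Elements) ⟨V₁, t₁⟩ ⟨V₂, t₂⟩
    let W₀ : (pt x).fiber.Elements := ⟨W, s⟩
    let U₀ : (pt x).fiber.Elements := ⟨U, (pt x).fiber.map a₁ t₁⟩
    let f₁ : W₀ ⟶ U₀ := CategoryOfElements.homMk W₀ U₀ (c₁ ≫ a₁) (by
      exact (fmap x _ _ s).trans (congrArg _ hc₁))
    let f₂ : W₀ ⟶ U₀ := CategoryOfElements.homMk W₀ U₀ (c₂ ≫ a₂) (by
      exact (fmap x _ _ s).trans ((congrArg _ hc₂).trans ht.symm))
    obtain ⟨⟨W', s'⟩, ⟨e, he⟩, hee⟩ := IsCofilteredOrEmpty.cone_maps f₁ f₂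
    have hee' : (e ≫ c₁) ≫ a₁ = (e ≫ c₂) ≫ a₂ := by
      have h0 : e ≫ (c₁ ≫ a₁) = e ≫ (c₂ ≫ a₂) := congrArg Subtype.val hee
      simpa using h0
    have e₁ : (pt x).fiber.map (e ≫ c₁) s' = t₁ := by
      exact (fmap x _ _ _).trans ((congrArg _ he).trans hc₁)
    have e₂ : (pt x).fiber.map (e ≫ c₂) s' = t₂ := by
      exact (fmap x _ _ _).trans ((congrArg _ he).trans hc₂)
    rw [← e₁, ← e₂]
    have p₁ := congrArg (fun z : ∀ x : X, (pt x).fiber.obj W' → M F x => z x s') (hy' a₁ (e ≫ c₁) h₁)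
    have p₂ := congrArg (fun z : ∀ x : X, (pt x).fiber.obj W' → M F x => z x s') (hy' a₂ (e ≫ c₂) h₂)
    refine p₁.symm.trans (Eq.trans ?_ p₂)
    congr 1
  choose V a ha s hs using fun (x : X) (t : (pt x).fiber.obj U) =>
    (pt x).jointly_surjective R hR t
  refine ⟨((fun x t => (y (a x t) (ha x t) : ∀ x' : X, (pt x').fiber.obj (V x t) → M F x') x (s x t)) :
      ∀ x : X, (pt x).fiber.obj U → M F x),
    fun W b hb => ?_, fun z hz => ?_⟩
  · funext x t
    exact indep x _ _ _ _ _ _ _ _ (hs x _)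
  · funext x t
    have := congrArg (fun w : ∀ x' : X, (pt x').fiber.obj (V x t) → M F x' => w x (s x t))
      (hz (a x t) (ha x t))
    refine Eq.trans ?_ this
    exact congrArg (fun q => (z : ∀ x : X, (pt x).fiber.obj U → M F x) x q) (hs x t).symm

/-- The sheaf. -/
noncomputable def sheaf : Sheaf X.smallEtaleTopology GrpCat.{u + 1} :=
  ⟨presheaf F, isSheaf_presheaf F⟩

/-- The embedding. -/
noncomputable def emb : F ⟶ sheaf F :=
  ⟨{ app := fun U => GrpCat.ofHom
      { toFun := fun f x t => germ F x U.unop t f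
        map_one' := by funext x t; exact map_one _
        map_mul' := fun f g => by funext x t; exact map_mul _ _ _ }
     naturality := fun U V a => by
      ext f
      funext x t
      exact germ_res F x a.unop t f }⟩

theorem emb_injective (U : X.Etaleᵒᵖ) : Function.Injective ((emb F).hom.app U) := by
  intro f g h
  choose V a s hs hres using fun (u : U.unop.left) => exists_res_eq F _
    (Groth.Agent.Lib.EtSite.Basic.exists_fiber_geomPoint U.unop u).choose
    (congrArg (fun z : ∀ x : X, (pt x).fiber.obj U.unop → M F x => z _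
      (Groth.Agent.Lib.EtSite.Basic.exists_fiber_geomPoint U.unop u).choose) h)
  refine ext_on_sieve_grp F (Sieve.ofArrows V a)
    (Groth.Agent.Lib.EtSite.Basic.ofArrows_mem V a fun u =>
      ⟨u, Groth.Agent.Lib.EtSite.Basic.fiberPt (s u), ?_⟩) fun W b hb => ?_
  · rw [← Groth.Agent.Lib.EtSite.Basic.fiberPt_map]
    refine Eq.trans ?_ (Groth.Agent.Lib.EtSite.Basic.exists_fiber_geomPoint U.unop u).choose_spec
    exact congrArg Groth.Agent.Lib.EtSite.Basic.fiberPt (hs u)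
  · obtain ⟨i, c, rfl⟩ := (Sieve.mem_ofArrows_iff _ _ _).mp hb
    rw [← map_comp_grp, ← map_comp_grp, hres]

section torsor

variable (U : X.Etale) (P : NonAbH1.Torsor ((sheaf F).over U))

/-- The value of a section of the sheaf over `V` at a lift. -/
abbrev val {V : Over U} (g : ((sheaf F).over U).obj.obj (op V)) (x : X)
    (t : (pt x).fiber.obj V.left) : M F x :=
  (g : ∀ x : X, (pt x).fiber.obj V.left → M F x) x t

/-- Torsors of the sheaf over `U` have a section over `U`. -/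
theorem nonempty_sections : Nonempty (P.P.obj.obj (op (Over.mk (𝟙 U)))) := by
  obtain ⟨S, hS, hne⟩ := P.isTorsor.2 (Over.mk (𝟙 U))
  -- a reference lift for every point
  have lift : ∀ (x : X) (t : (pt x).fiber.obj U), ∃ (V : Over U) (_ : P.P.obj.obj (op V))
      (t₀ : (pt x).fiber.obj V.left), (pt x).fiber.map V.hom t₀ = t := by
    intro x t
    obtain ⟨Y, f, hf, y, hy⟩ := (pt x).jointly_surjective _
      ((GrothendieckTopology.mem_over_iff _ S).mp hS) t
    rw [Sieve.overEquiv_iff] at hf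
    exact ⟨_, (hne _ hf).some, y, (congrArg (fun k => (pt x).fiber.map k y) (Category.comp_id f)).trans hy⟩
  choose V₀ p₀ t₀ ht₀ using lift
  -- evaluation of sections at lifts
  have hev : ∀ (V : Over U) (p : P.P.obj.obj (op V)) (x : X) (t' : (pt x).fiber.obj V.left),
      ∃! g : M F x, ∀ (W : Over U) (c : W ⟶ V) (d : W ⟶ V₀ x ((pt x).fiber.map V.hom t'))
        (s : (pt x).fiber.obj W.left), (pt x).fiber.map c.left s = t' →
        (pt x).fiber.map d.left s = t₀ x ((pt x).fiber.map V.hom t') →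
        val F U (diff P.toGSheaf P.isTorsor.1 (P.P.obj.map d.op (p₀ x _)) (P.P.obj.map c.op p)) x s = g := by
    intro V p x t'
    set b := (pt x).fiber.map V.hom t' with hb
    obtain ⟨⟨W₁, s₁⟩, ⟨c₁, hc₁⟩, ⟨c₂, hc₂⟩, -⟩ := IsCofilteredOrEmpty.cone_objs
      (C := (pt x).fiber.Elements) ⟨V.left, t'⟩ ⟨(V₀ x b).left, t₀ x b⟩
    let W₀ : (pt x).fiber.Elements := ⟨W₁, s₁⟩
    let U₀ : (pt x).fiber.Elements := ⟨U, b⟩
    let f₁ : W₀ ⟶ U₀ := CategoryOfElements.homMk W₀ U₀ (c₁ ≫ V.hom) (by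
      exact (fmap x _ _ s₁).trans (congrArg _ hc₁))
    let f₂ : W₀ ⟶ U₀ := CategoryOfElements.homMk W₀ U₀ (c₂ ≫ (V₀ x b).hom) (by
      exact (fmap x _ _ s₁).trans ((congrArg _ hc₂).trans (ht₀ x b)))
    obtain ⟨⟨W₂, s₂⟩, ⟨e, he⟩, hee⟩ := IsCofilteredOrEmpty.cone_maps f₁ f₂
    have hee' : (e ≫ c₁) ≫ V.hom = (e ≫ c₂) ≫ (V₀ x b).hom := by
      have h0 : e ≫ (c₁ ≫ V.hom) = e ≫ (c₂ ≫ (V₀ x b).hom) := congrArg Subtype.val hee
      simpa using h0
    let W : Over U := Over.mk ((e ≫ c₁) ≫ V.hom)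
    let c : W ⟶ V := Over.homMk (e ≫ c₁) rfl
    let d : W ⟶ V₀ x b := Over.homMk (e ≫ c₂) hee'.symm
    have hcs : (pt x).fiber.map c.left s₂ = t' := by
      show (pt x).fiber.map (e ≫ c₁) s₂ = _
      exact (fmap x _ _ _).trans ((congrArg _ he).trans hc₁)
    have hds : (pt x).fiber.map d.left s₂ = t₀ x b := by
      show (pt x).fiber.map (e ≫ c₂) s₂ = _
      exact (fmap x _ _ _).trans ((congrArg _ he).trans hc₂)
    refine ⟨_, fun W' c' d' s' hc' hd' => ?_, fun g hg => (hg W c d s₂ hcs hds).symm⟩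
    -- a neighbourhood dominating both
    obtain ⟨⟨W₃, s₃⟩, ⟨g₁, hg₁⟩, ⟨g₂, hg₂⟩, -⟩ := IsCofilteredOrEmpty.cone_objs
      (C := (pt x).fiber.Elements) ⟨W.left, s₂⟩ ⟨W'.left, s'⟩
    let T₃ : (pt x).fiber.Elements := ⟨W₃, s₃⟩
    let T' : (pt x).fiber.Elements := ⟨V.left, t'⟩
    let k₁ : T₃ ⟶ T' := CategoryOfElements.homMk T₃ T' (g₁ ≫ c.left) (by
      exact (fmap x _ _ s₃).trans ((congrArg _ hg₁).trans hcs))
    let k₂ : T₃ ⟶ T' := CategoryOfElements.homMk T₃ T' (g₂ ≫ c'.left) (by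
      exact (fmap x _ _ s₃).trans ((congrArg _ hg₂).trans hc'))
    obtain ⟨⟨W₄, s₄⟩, ⟨e₄, he₄⟩, hk⟩ := IsCofilteredOrEmpty.cone_maps k₁ k₂
    let T₄ : (pt x).fiber.Elements := ⟨W₄, s₄⟩
    let T₀ : (pt x).fiber.Elements := ⟨(V₀ x b).left, t₀ x b⟩
    let l₁ : T₄ ⟶ T₀ := CategoryOfElements.homMk T₄ T₀ ((e₄ ≫ g₁) ≫ d.left) (by
      exact ((fmap x _ _ s₄).trans (congrArg _ ((fmap x _ _ s₄).trans
        ((congrArg _ he₄).trans hg₁)))).trans hds)
    let l₂ : T₄ ⟶ T₀ := CategoryOfElements.homMk T₄ T₀ ((e₄ ≫ g₂) ≫ d'.left) (by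
      exact ((fmap x _ _ s₄).trans (congrArg _ ((fmap x _ _ s₄).trans
        ((congrArg _ he₄).trans hg₂)))).trans hd')
    obtain ⟨⟨W₅, s₅⟩, ⟨e₅, he₅⟩, hl⟩ := IsCofilteredOrEmpty.cone_maps l₁ l₂
    have hl' : (e₅ ≫ e₄ ≫ g₁) ≫ d.left = (e₅ ≫ e₄ ≫ g₂) ≫ d'.left := by
      have h0 : e₅ ≫ ((e₄ ≫ g₁) ≫ d.left) = e₅ ≫ ((e₄ ≫ g₂) ≫ d'.left) := congrArg Subtype.val hl
      simpa using h0
    have hk' : (e₅ ≫ e₄ ≫ g₁) ≫ c.left = (e₅ ≫ e₄ ≫ g₂) ≫ c'.left := by
      have h0 : e₄ ≫ g₁ ≫ c.left = e₄ ≫ g₂ ≫ c'.left := congrArg Subtype.val hk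
      simpa using congrArg (fun z => e₅ ≫ z) h0
    have hw : (e₅ ≫ e₄ ≫ g₁) ≫ W.hom = (e₅ ≫ e₄ ≫ g₂) ≫ W'.hom := by
      rw [← Over.w c, ← Over.w c', ← Category.assoc, hk', Category.assoc]
    let Z : Over U := Over.mk ((e₅ ≫ e₄ ≫ g₁) ≫ W.hom)
    let z₁ : Z ⟶ W := Over.homMk (e₅ ≫ e₄ ≫ g₁) rfl
    let z₂ : Z ⟶ W' := Over.homMk (e₅ ≫ e₄ ≫ g₂) hw.symm
    have hzc : z₁ ≫ c = z₂ ≫ c' := Over.OverMorphism.ext hk'
    have hzd : z₁ ≫ d = z₂ ≫ d' := Over.OverMorphism.ext hl'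
    have key : ((sheaf F).over U).obj.map z₂.op
          (diff P.toGSheaf P.isTorsor.1 (P.P.obj.map d'.op (p₀ x b)) (P.P.obj.map c'.op p)) =
        ((sheaf F).over U).obj.map z₁.op
          (diff P.toGSheaf P.isTorsor.1 (P.P.obj.map d.op (p₀ x b)) (P.P.obj.map c.op p)) := by
      apply smul_right_cancel P.toGSheaf P.isTorsor.1 (P.P.obj.map (z₁ ≫ d).op (p₀ x b))
      conv_lhs => rw [hzd, ← map_comp_set P.P.obj d' z₂, ← P.map_smul, diff_smul, map_comp_set, ← hzc]
      rw [← map_comp_set P.P.obj d z₁, ← P.map_smul, diff_smul, map_comp_set]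
    have hs₁ : (pt x).fiber.map z₁.left s₅ = s₂ := by
      show (pt x).fiber.map (e₅ ≫ e₄ ≫ g₁) s₅ = _
      exact (fmap x _ _ s₅).trans ((fmap x _ _ _).trans
        ((congrArg _ ((congrArg _ he₅).trans he₄)).trans hg₁))
    have hs₂ : (pt x).fiber.map z₂.left s₅ = s' := by
      show (pt x).fiber.map (e₅ ≫ e₄ ≫ g₂) s₅ = _
      exact (fmap x _ _ s₅).trans ((fmap x _ _ _).trans
        ((congrArg _ ((congrArg _ he₅).trans he₄)).trans hg₂))
    have := congrArg (fun z => val F U z x s₅) key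
    rw [← hs₂, ← hs₁]
    exact this
  choose ev hev hevu using hev
  have ev_smul : ∀ (V : Over U) (g : ((sheaf F).over U).obj.obj (op V)) (p : P.P.obj.obj (op V))
      (x : X) (t' : (pt x).fiber.obj V.left),
      ev V (P.smul g p) x t' = val F U g x t' * ev V p x t' := by
    intro V g p x t'
    refine (hevu V _ x t' _ fun W c d s hc hd => ?_).symm
    have e : diff P.toGSheaf P.isTorsor.1 (P.P.obj.map d.op (p₀ x _)) (P.P.obj.map c.op (P.smul g p)) =
        ((sheaf F).over U).obj.map c.op g *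
          diff P.toGSheaf P.isTorsor.1 (P.P.obj.map d.op (p₀ x _)) (P.P.obj.map c.op p) := by
      apply smul_right_cancel P.toGSheaf P.isTorsor.1 (P.P.obj.map d.op (p₀ x _))
      rw [diff_smul, P.mul_smul, diff_smul, P.map_smul]
    rw [e]
    exact congrArg₂ (· * ·) (congrArg (fun q => val F U g x q) hc) (hev V p x t' W c d s hc hd)
  have ev_map : ∀ (V V' : Over U) (a : V' ⟶ V) (p : P.P.obj.obj (op V)) (x : X)
      (t' : (pt x).fiber.obj V'.left),
      ev V' (P.P.obj.map a.op p) x t' = ev V p x ((pt x).fiber.map a.left t') := by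
    intro V V' a p x t'
    refine (hevu V' _ x t' _ fun W c d s hc hd => ?_).symm
    rw [map_comp_set]
    have hb : (pt x).fiber.map V.hom ((pt x).fiber.map a.left t') = (pt x).fiber.map V'.hom t' := by
      rw [← Over.w a, Functor.map_comp]; rfl
    have h2 := hev V p x ((pt x).fiber.map a.left t')
    rw [hb] at h2
    exact h2 W (c ≫ a) d s (by
      show (pt x).fiber.map (c.left ≫ a.left) s = _
      exact (fmap x _ _ s).trans (congrArg _ hc)) hd
  let α : ∀ {V : Over U}, P.P.obj.obj (op V) → ((sheaf F).over U).obj.obj (op V) := fun {V} p =>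
    (fun x t' => ev V p x t' : ∀ x : X, (pt x).fiber.obj V.left → M F x)
  have norm_map : ∀ (V V' : Over U) (a : V' ⟶ V) (p : P.P.obj.obj (op V)),
      ((sheaf F).over U).obj.map a.op (α p) = α (P.P.obj.map a.op p) := by
    intro V V' a p
    funext x t'
    exact (ev_map V V' a p x t').symm
  have norm_unique : ∀ (V : Over U) (p p' : P.P.obj.obj (op V)),
      P.smul (α p)⁻¹ p = P.smul (α p')⁻¹ p' := by
    intro V p p'
    obtain ⟨g, rfl, -⟩ := P.isTorsor.1 _ p p'
    have : α (P.smul g p) = g * α p := by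
      funext x t'
      exact ev_smul V g p x t'
    rw [this, mul_inv_rev, P.mul_smul, ← P.mul_smul g⁻¹, inv_mul_cancel, P.one_smul]
  obtain ⟨q, -, -⟩ := existsUnique_glue P.P S hS
    (fun V a h => P.smul (α (hne a h).some)⁻¹ (hne a h).some)
    (fun V W c a h => by
      rw [P.map_smul, map_inv, norm_map]
      exact norm_unique _ _ _)
  exact ⟨q⟩

/-- Every torsor of the sheaf over `U` is trivial. -/
theorem isTrivial : P.IsTrivial := by
  obtain ⟨q⟩ := nonempty_sections F U P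
  have hI : (X.smallEtaleTopology.over U).CoversTop (fun _ : PUnit.{1} => Over.mk (𝟙 U)) := fun V => by
    convert (X.smallEtaleTopology.over U).top_mem V
    ext W f
    exact iff_of_true ⟨PUnit.unit, ⟨Over.homMk W.hom (Category.comp_id _)⟩⟩ trivial
  have heq : ∀ (W : Over U) (a b : W ⟶ Over.mk (𝟙 U)), a = b := fun W a b =>
    Over.OverMorphism.ext (by
      have ha : a.left ≫ 𝟙 U = W.hom := Over.w a
      have hb : b.left ≫ 𝟙 U = W.hom := Over.w b
      exact (Category.comp_id _).symm.trans ((ha.trans hb.symm).trans (Category.comp_id _)))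
  refine Groth.Agent.Lib.NAH1.CechIso.nonempty_iso (γ := 1) hI
    (NonAbH1.GSheaf.isTorsor_trivial.{u + 1, u, u + 1} _).1 P.isTorsor.1
    (s := fun _ => NonAbH1.GSheaf.ofGrp.{u + 1, u, u + 1} (1 : ((sheaf F).over U).obj.obj (op (Over.mk (𝟙 U)))))
    (t := fun _ => q) ?_ ?_
  all_goals
    intro i j W a b
    rw [heq W a b]
    exact GSheaf_one_smul _ _
where
  GSheaf_one_smul (Q : NonAbH1.GSheaf ((sheaf F).over U)) {W : (Over U)ᵒᵖ} (p : Q.P.obj.obj W) :
      Q.smul 1 p = p := Q.one_smul p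

end torsor

end Groth.Agent.H76.GodementGrp
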